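import Cfsg.Agent.Lib.LyRep.Engine
import Cfsg.Agent.Lib.LyTwo.Cert.Mats0
import Cfsg.Agent.Lib.LyRep.Primes.Data

/-! Checks for the element of order 11. -/
set_option autoImplicit false
set_option maxRecDepth 100000

namespace CfsgLib.LyRep

theorem check11 : wordCheck 111 ([CfsgLib.LyTwo.Cert.m5, CfsgLib.LyTwo.Cert.m2, CfsgLib.LyTwo.Cert.m3, CfsgLib.LyTwo.Cert.m5, CfsgLib.LyTwo.Cert.m3, CfsgLib.LyTwo.Cert.m4] ++ [Primes.ci11]) = true := by decide +kernel

theorem inv11 : wordCheck 111 [Primes.ci11, Primes.c11] = true := by decide +kernel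

theorem pow11 : wordCheck 111 (List.replicate 11 Primes.c11) = true := by decide +kernel

end CfsgLib.LyRep
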