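import Cfsg.Agent.Lib.LyRep.Engine
import Cfsg.Agent.Lib.LyTwo.Cert.Mats0
import Cfsg.Agent.Lib.LyRep.Primes.Data
import Cfsg.Agent.Lib.LyRep.Primes.Powers

/-! Checks for the element of order 37. -/
set_option autoImplicit false
set_option maxRecDepth 100000

namespace CfsgLib.LyRep

theorem check37 : wordCheck 111 ([CfsgLib.LyTwo.Cert.m1, CfsgLib.LyTwo.Cert.m3, CfsgLib.LyTwo.Cert.m5, CfsgLib.LyTwo.Cert.m4] ++ [Primes.ci37]) = true := by decide +kernel

theorem inv37 : wordCheck 111 [Primes.ci37, Primes.c37] = true := by decide +kernel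

theorem pow37a : wordCheck 111 (List.replicate 8 Primes.c37 ++ [Primes.di37]) = true := by decide +kernel

theorem pow37b : wordCheck 111 [Primes.di37, Primes.d37] = true := by decide +kernel

theorem pow37c : wordCheck 111 (List.replicate 4 Primes.d37 ++ List.replicate 5 Primes.c37) = true := by decide +kernel

end CfsgLib.LyRep
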