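import Cfsg.Agent.Lib.LyRep.Engine
import Cfsg.Agent.Lib.LyTwo.Cert.Mats0
import Cfsg.Agent.Lib.LyRep.Primes.Data
import Cfsg.Agent.Lib.LyRep.Primes.Powers

/-! Checks for the element of order 67. -/
set_option autoImplicit false
set_option maxRecDepth 100000

namespace CfsgLib.LyRep

theorem check67 : wordCheck 111 ([CfsgLib.LyTwo.Cert.m3, CfsgLib.LyTwo.Cert.m5, CfsgLib.LyTwo.Cert.m4, CfsgLib.LyTwo.Cert.m5, CfsgLib.LyTwo.Cert.m2] ++ [Primes.ci67]) = true := by decide +kernel

theorem inv67 : wordCheck 111 [Primes.ci67, Primes.c67] = true := by decide +kernel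

theorem pow67a : wordCheck 111 (List.replicate 8 Primes.c67 ++ [Primes.di67]) = true := by decide +kernel

theorem pow67b : wordCheck 111 [Primes.di67, Primes.d67] = true := by decide +kernel

theorem pow67c : wordCheck 111 (List.replicate 8 Primes.d67 ++ List.replicate 3 Primes.c67) = true := by decide +kernel

end CfsgLib.LyRep
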